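import Groth.Agent.SmoothInterDim.Closure
import Groth.Agent.InterDimLib.Affine

/-! Dimensions under extension of the base field. -/

set_option autoImplicit false
set_option linter.style.haveILetI false

open CategoryTheory CategoryTheory.Limits AlgebraicGeometry
open scoped TensorProduct
open Groth.Agent.GrSegreLib (ringKrullDim_eq_of_integral_injective)

universe u

noncomputable section

namespace Groth.Agent.SmoothInterDim

variable (k : Type u) [Field k]

/-- In a tensor product of an affine domain with a noetherian domain, all minimal primes have full dimension. -/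
theorem ringKrullDim_quotient_minimal' {A B : Type u} [CommRing A] [IsDomain A] [CommRing B] [IsDomain B]
    [Algebra k A] [Algebra k B] [Algebra.FiniteType k A] [IsNoetherianRing B] {r s : ℕ}
    (hr : ringKrullDim A = r) (hs : ringKrullDim B = s)
    (M : Ideal (B ⊗[k] A)) (hM : M ∈ minimalPrimes (B ⊗[k] A)) :
    ringKrullDim ((B ⊗[k] A) ⧸ M) = ((r + s : ℕ) : WithBot ℕ∞) := by
  classical
  haveI : M.IsPrime := hM.1.1
  obtain ⟨m, f, hf, hfi⟩ := exists_finite_inj_algHom_of_fg k A
  letI : Algebra (MvPolynomial (Fin m) k) A := f.toRingHom.toAlgebra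
  haveI : IsScalarTower k (MvPolynomial (Fin m) k) A := .of_algebraMap_eq fun x => (f.commutes x).symm
  haveI : Module.Finite (MvPolynomial (Fin m) k) A := hfi
  haveI : Module.IsTorsionFree (MvPolynomial (Fin m) k) A :=
    Module.isTorsionFree_iff_algebraMap_injective.2 hf
  obtain ⟨N, ι, hι⟩ := CAlgBasics.exists_injective_pi_of_isTorsionFree (MvPolynomial (Fin m) k) A
  let G : B ⊗[k] MvPolynomial (Fin m) k →ₐ[k] B ⊗[k] A := Algebra.TensorProduct.map (AlgHom.id k B) f
  let Ψ : Fin N → (B ⊗[k] A →ₗ[k] B ⊗[k] MvPolynomial (Fin m) k) := fun i =>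
    ((LinearMap.proj i).comp ι |>.restrictScalars k).lTensor B
  have hΨ : ∀ i c t, Ψ i (G c * t) = c * Ψ i t := by
    intro i c t
    induction c using TensorProduct.induction_on with
    | zero => simp
    | add x y hx hy => rw [map_add, add_mul, map_add, hx, hy, add_mul]
    | tmul b z =>
      induction t using TensorProduct.induction_on with
      | zero => simp
      | add x y hx hy => rw [mul_add, map_add, hx, hy, map_add, mul_add]
      | tmul b' a =>
        have e : f z * a = z • a := (Algebra.smul_def z a).symm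
        simp only [G, Ψ, Algebra.TensorProduct.map_tmul, AlgHom.coe_id, id_eq,
          Algebra.TensorProduct.tmul_mul_tmul, LinearMap.lTensor_tmul,
          LinearMap.coe_restrictScalars, LinearMap.coe_comp, Function.comp_apply, LinearMap.proj_apply, e,
          map_smul, Pi.smul_apply, smul_eq_mul]
  have hjoint : ∀ t, (∀ i, Ψ i t = 0) → t = 0 := by
    intro t ht
    let Φ : B ⊗[k] A →ₗ[k] (Fin N → B ⊗[k] MvPolynomial (Fin m) k) :=
      (TensorProduct.piRight k k B (fun _ : Fin N => MvPolynomial (Fin m) k)).toLinearMap.comp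
        ((ι.restrictScalars k).lTensor B)
    have hΦ : Function.Injective Φ :=
      (TensorProduct.piRight k k B (fun _ : Fin N => MvPolynomial (Fin m) k)).injective.comp
        (Module.Flat.lTensor_preserves_injective_linearMap (M := B) (ι.restrictScalars k) hι)
    have hi : ∀ i, (LinearMap.proj i).comp Φ = Ψ i := fun i => TensorProduct.ext' fun b a => by
      simp [Φ, Ψ]
    refine hΦ ((funext fun i => ?_ : Φ t = 0).trans (map_zero Φ).symm)
    exact (LinearMap.congr_fun (hi i) t).trans (ht i)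
  let e : B ⊗[k] MvPolynomial (Fin m) k ≃+* MvPolynomial (Fin m) B :=
    (MvPolynomial.scalarRTensorAlgEquiv (R := k) (σ := Fin m) (N := B)).toRingEquiv
  haveI : IsDomain (B ⊗[k] MvPolynomial (Fin m) k) := e.toMulEquiv.isDomain (MvPolynomial (Fin m) B)
  let G' : B ⊗[k] MvPolynomial (Fin m) k →+* (B ⊗[k] A) ⧸ M := (Ideal.Quotient.mk M).comp G.toRingHom
  have hG' : Function.Injective G' := by
    rw [injective_iff_map_eq_zero]
    intro c hc
    by_contra hc0
    have hreg : G c ∈ nonZeroDivisors (B ⊗[k] A) := mem_nonZeroDivisors_iff.2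
      ⟨fun t ht => hjoint t fun i => (mul_eq_zero.1 ((hΨ i c t).symm.trans (by rw [ht, map_zero]))).resolve_left hc0,
       fun t ht => hjoint t fun i => (mul_eq_zero.1 ((hΨ i c t).symm.trans
        (by rw [mul_comm, ht, map_zero]))).resolve_left hc0⟩
    exact Set.disjoint_left.1 (Ideal.disjoint_nonZeroDivisors_of_mem_minimalPrimes hM)
      (Ideal.Quotient.eq_zero_iff_mem.1 hc) hreg
  have hA : ∀ a : A, RingHom.IsIntegralElem G.toRingHom ((1 : B) ⊗ₜ[k] a) := by
    intro a
    obtain ⟨P, hP, hPa⟩ := RingHom.IsIntegral.of_finite hfi a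
    refine ⟨P.map (Algebra.TensorProduct.includeRight (R := k)
      (A := B) (B := MvPolynomial (Fin m) k)).toRingHom, hP.map _, ?_⟩
    rw [Polynomial.eval₂_map]
    have hcomp : G.toRingHom.comp (Algebra.TensorProduct.includeRight (R := k)
        (A := B) (B := MvPolynomial (Fin m) k)).toRingHom =
        (Algebra.TensorProduct.includeRight (R := k) (A := B) (B := A)).toRingHom.comp f.toRingHom := by
      refine RingHom.ext fun x => ?_
      simp [G]
    rw [hcomp]
    have := Polynomial.hom_eval₂ P f.toRingHom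
      (Algebra.TensorProduct.includeRight (R := k) (A := B) (B := A)).toRingHom a
    exact this.symm.trans (by rw [hPa]; simp)
  have hB : ∀ b : B, RingHom.IsIntegralElem G.toRingHom (b ⊗ₜ[k] (1 : A)) := fun b => by
    have := RingHom.isIntegralElem_map (G.toRingHom) (x := b ⊗ₜ[k] (1 : MvPolynomial (Fin m) k))
    simpa [G] using this
  have hGi : G.toRingHom.IsIntegral := by
    intro x
    induction x using TensorProduct.induction_on with
    | zero => exact RingHom.isIntegralElem_zero _
    | tmul b a =>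
      have h := RingHom.IsIntegralElem.mul _ (hB b) (hA a)
      rwa [Algebra.TensorProduct.tmul_mul_tmul, mul_one, one_mul] at h
    | add x y hx hy => exact RingHom.IsIntegralElem.add _ hx hy
  have hG'i : G'.IsIntegral := RingHom.IsIntegral.trans _ _ hGi
    (RingHom.isIntegral_of_surjective _ Ideal.Quotient.mk_surjective)
  have hdf := ringKrullDim_eq_of_integral_injective f.toRingHom hf (RingHom.IsIntegral.of_finite hfi)
  rw [hr, MvPolynomial.ringKrullDim_of_isNoetherianRing, ringKrullDim_eq_zero_of_field] at hdf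
  obtain rfl : m = r := by
    have : (m : WithBot ℕ∞) = r := by simpa using hdf
    exact_mod_cast this
  rw [← ringKrullDim_eq_of_integral_injective G' hG' hG'i, ringKrullDim_eq_of_ringEquiv e,
    MvPolynomial.ringKrullDim_of_isNoetherianRing, hs, Nat.card_fin, Nat.add_comm m s]
  norm_cast

variable {k}

/-- A prime of `A ⊗ K` minimal over a prime `p` of `A` has the dimension of `A/p`. -/
theorem dim_quotient_over_prime {A K : Type u} [CommRing A] [Algebra k A] [Algebra.FiniteType k A]
    [Field K] [Algebra k K] (p : Ideal A) [p.IsPrime] (q : Ideal (A ⊗[k] K)) [q.IsPrime]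
    (hp : ∀ a ∈ p, a ⊗ₜ[k] (1 : K) ∈ q)
    (hmin : ∀ q' : Ideal (A ⊗[k] K), q'.IsPrime → (∀ a ∈ p, a ⊗ₜ[k] (1 : K) ∈ q') → q' ≤ q → q' = q) :
    ringKrullDim ((A ⊗[k] K) ⧸ q) = ringKrullDim (A ⧸ p) := by
  obtain ⟨r, hr'⟩ := DimFormulaLib.exists_nat_trdeg_quotient k A p
  have hr := DimFormulaLib.ringKrullDim_eq_trdeg k r hr'
  let π : A →ₐ[k] (A ⊗[k] K) ⧸ q := (Ideal.Quotient.mkₐ k q).comp Algebra.TensorProduct.includeLeft
  let π' : A ⧸ p →ₐ[k] (A ⊗[k] K) ⧸ q := Ideal.Quotient.liftₐ p π fun a ha => Ideal.Quotient.eq_zero_iff_mem.2 (hp a ha)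
  let ρ : K →ₐ[k] (A ⊗[k] K) ⧸ q := (Ideal.Quotient.mkₐ k q).comp Algebra.TensorProduct.includeRight
  let ψ : K ⊗[k] (A ⧸ p) →ₐ[k] (A ⊗[k] K) ⧸ q := Algebra.TensorProduct.lift ρ π' fun _ _ => Commute.all _ _
  let G : A ⊗[k] K →ₐ[k] K ⊗[k] (A ⧸ p) :=
    (Algebra.TensorProduct.comm k (A ⧸ p) K).toAlgHom.comp
      (Algebra.TensorProduct.map (Ideal.Quotient.mkₐ k p) (AlgHom.id k K))
  have hG : Function.Surjective G := (Algebra.TensorProduct.comm k (A ⧸ p) K).surjective.comp
    (TensorProduct.map_surjective Ideal.Quotient.mk_surjective Function.surjective_id)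
  have hψG : ψ.comp G = Ideal.Quotient.mkₐ k q := by
    apply Algebra.TensorProduct.ext'
    intro a c
    show ψ (c ⊗ₜ[k] Ideal.Quotient.mk p a) = Ideal.Quotient.mk q (a ⊗ₜ[k] c)
    simp only [ψ, Algebra.TensorProduct.lift_tmul]
    show Ideal.Quotient.mk q ((1 : A) ⊗ₜ[k] c) * Ideal.Quotient.mk q (a ⊗ₜ[k] (1 : K)) = _
    rw [← map_mul, Algebra.TensorProduct.tmul_mul_tmul, one_mul, mul_one]
  have hψ : Function.Surjective ψ := fun z => by
    obtain ⟨x, rfl⟩ := Ideal.Quotient.mk_surjective z
    exact ⟨G x, DFunLike.congr_fun hψG x⟩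
  have hQ : RingHom.ker ψ.toRingHom ∈ minimalPrimes (K ⊗[k] (A ⧸ p)) := by
    refine ⟨⟨RingHom.ker_isPrime _, bot_le⟩, fun Q hQ hle => ?_⟩
    haveI := hQ.1
    have h1 := hmin (Q.comap G.toRingHom) inferInstance (fun a ha => by
      show G (a ⊗ₜ[k] (1 : K)) ∈ Q
      simp [G, Ideal.Quotient.eq_zero_iff_mem.2 ha]) (fun x hx => by
      have h2 : ψ (G x) = 0 := hle hx
      rw [← AlgHom.comp_apply, hψG] at h2
      exact Ideal.Quotient.eq_zero_iff_mem.1 h2)
    intro y hy
    obtain ⟨x, rfl⟩ := hG y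
    have h2 : x ∈ q := by
      refine Ideal.Quotient.eq_zero_iff_mem.1 ?_
      show Ideal.Quotient.mkₐ k q x = 0
      rw [← hψG]
      exact hy
    exact (h1.ge h2 : x ∈ Q.comap G.toRingHom)
  have key := ringKrullDim_quotient_minimal' k hr (ringKrullDim_eq_zero_of_field K : ringKrullDim K = ((0 : ℕ) : WithBot ℕ∞)) _ hQ
  rw [ringKrullDim_eq_of_ringEquiv (RingHom.quotientKerEquivOfSurjective (f := ψ.toRingHom) hψ)] at key
  rw [key, hr, add_zero]

/-- Dimension of the closure of a point minimal over a point, after extension of the base field. -/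
theorem dim_closure_bc {K : Type u} [Field K] [Algebra k K] {X : Scheme.{u}} (f : X ⟶ Spec (CommRingCat.of k))
    [LocallyOfFiniteType f] (i : Spec (CommRingCat.of K) ⟶ Spec (CommRingCat.of k))
    (hi : i = Spec.map (CommRingCat.ofHom (algebraMap k K))) (ξ : X) (η : ↥(pullback f i))
    (hξ : ξ ⤳ pullback.fst f i η)
    (hmin : ∀ w, ξ ⤳ pullback.fst f i w → w ⤳ η → w = η) :
    topologicalKrullDim ↥(closure ({η} : Set ↥(pullback f i))) =
      topologicalKrullDim ↥(closure ({ξ} : Set X)) := by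
  subst hi
  obtain ⟨U, hU, haU, -⟩ := exists_isAffineOpen_mem_and_subset
    (X := X) (x := pullback.fst f (Spec.map (CommRingCat.ofHom (algebraMap k K))) η) (U := ⊤) trivial
  obtain ⟨p, rfl⟩ : ξ ∈ Set.range hU.fromSpec := hU.range_fromSpec.symm ▸ hξ.mem_open U.2 haU
  let φ := Spec.preimage (hU.fromSpec ≫ f)
  letI : Algebra k Γ(X, U) := φ.hom.toAlgebra
  have hφ : Spec.map (CommRingCat.ofHom (algebraMap k Γ(X, U))) = hU.fromSpec ≫ f := Spec.map_preimage _
  haveI : Algebra.FiniteType k Γ(X, U) := by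
    have : LocallyOfFiniteType (Spec.map φ) := by rw [Spec.map_preimage]; infer_instance
    exact (HasRingHomProperty.Spec_iff (P := @LocallyOfFiniteType)).1 this
  let j := pullback.map (Spec.map (CommRingCat.ofHom (algebraMap k Γ(X, U))))
    (Spec.map (CommRingCat.ofHom (algebraMap k K))) f (Spec.map (CommRingCat.ofHom (algebraMap k K)))
    hU.fromSpec (𝟙 _) (𝟙 _)
    (by rw [Category.comp_id, hφ]) (by rw [Category.comp_id, Category.id_comp])
  obtain ⟨w, hw⟩ : η ∈ Set.range j := by
    rw [Scheme.Pullback.range_map, hU.range_fromSpec]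
    exact ⟨haU, _, rfl⟩
  let e := pullbackSpecIso k Γ(X, U) K
  let J := e.inv ≫ j
  have hJ : J ≫ pullback.fst f _ = Spec.map (CommRingCat.ofHom Algebra.TensorProduct.includeLeftRingHom) ≫ hU.fromSpec := by
    simp only [J, j, Category.assoc, pullback.lift_fst]
    rw [← Category.assoc, pullbackSpecIso_inv_fst]
  obtain ⟨q, rfl⟩ : ∃ q, J q = η := ⟨e.hom w, by
    rw [← hw, Scheme.Hom.comp_apply, ← Scheme.Hom.comp_apply e.hom, e.hom_inv_id]; rfl⟩
  haveI : LocallyOfFiniteType (pullback.snd f (Spec.map (CommRingCat.ofHom (algebraMap k K)))) :=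
    MorphismProperty.of_isPullback (P := @LocallyOfFiniteType) (IsPullback.of_hasPullback _ _) inferInstance
  rw [dim_closure_spec (pullback.snd f (Spec.map (CommRingCat.ofHom (algebraMap k K)))) J q,
    dim_closure_spec f hU.fromSpec p]
  have hiff : ∀ q' : PrimeSpectrum (Γ(X, U) ⊗[k] K),
      (hU.fromSpec p ⤳ pullback.fst f _ (J q')) ↔ ∀ a ∈ p.asIdeal, a ⊗ₜ[k] (1 : K) ∈ q'.asIdeal := fun q' => by
    rw [show pullback.fst f _ (J q') = hU.fromSpec ((Spec.map (CommRingCat.ofHom
        (Algebra.TensorProduct.includeLeftRingHom : Γ(X, U) →+* Γ(X, U) ⊗[k] K))) q') from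
      (Scheme.Hom.comp_apply _ _ _).symm.trans ((congrArg (fun m => m.base q') hJ).trans (Scheme.Hom.comp_apply _ _ _))]
    exact hU.fromSpec.isOpenEmbedding.isInducing.specializes_iff.trans (PrimeSpectrum.le_iff_specializes p _).symm
  haveI : q.asIdeal.IsPrime := q.isPrime
  haveI : p.asIdeal.IsPrime := p.isPrime
  refine dim_quotient_over_prime p.asIdeal q.asIdeal ((hiff q).1 hξ) fun q' hq' hpq' hle => ?_
  have h1 : (⟨q', hq'⟩ : PrimeSpectrum (Γ(X, U) ⊗[k] K)) ⤳ q := (PrimeSpectrum.le_iff_specializes _ _).1 hle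
  have h2 := hmin _ ((hiff ⟨q', hq'⟩).2 hpq') (h1.map J.continuous)
  exact congrArg PrimeSpectrum.asIdeal (J.isOpenEmbedding.injective h2)

end Groth.Agent.SmoothInterDim
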