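import Mathlib
import Groth.Agent.InterDimLib.Topo
import Groth.Agent.HLVTLib.Connected
import Groth.Agent.OpenDim.Dims

/-! Dimension of the closure of a point of a scheme locally of finite type over a field. -/

set_option autoImplicit false
set_option linter.style.haveILetI false

open CategoryTheory AlgebraicGeometry Topology TopologicalSpace

universe u

namespace Groth.Agent.SmoothInterDim

theorem dim_closure_eq_trd {k : Type u} [Field k] {X : Scheme.{u}} (f : X ⟶ Spec (CommRingCat.of k))
    [LocallyOfFiniteType f] (η : X) :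
    topologicalKrullDim ↥(closure ({η} : Set X)) = (Groth.Agent.OpenDim.trd f η : WithBot ℕ∞) := by
  haveI : Subsingleton ↥(Spec (CommRingCat.of k)) := inferInstanceAs (Subsingleton (PrimeSpectrum k))
  have hS : closure ({η} : Set X) = closure {η} ∩ Set.univ ∩ f ⁻¹' {f η} := by
    ext w; simp [Subsingleton.elim (f w) (f η)]
  refine le_antisymm (Groth.Agent.OpenDim.dim_inter_le f _ isClosed_closure _ isOpen_univ (f η) _ hS fun w hw => ?_)
    (Groth.Agent.OpenDim.trd_le_dim_inter f _ isClosed_closure _ isOpen_univ (f η) _ hS (subset_closure rfl))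
  have := Groth.Agent.OpenDim.trd_le f (specializes_iff_mem_closure.2 hw) (Subsingleton.elim _ _)
  exact_mod_cast this

theorem dim_closure_restrict {k : Type u} [Field k] {X : Scheme.{u}} (f : X ⟶ Spec (CommRingCat.of k))
    [LocallyOfFiniteType f] (U : X.Opens) (w : U.toScheme) :
    topologicalKrullDim ↥(closure ({w} : Set U.toScheme)) = topologicalKrullDim ↥(closure ({U.ι w} : Set X)) := by
  rw [dim_closure_eq_trd (U.ι ≫ f), dim_closure_eq_trd f]
  have := Groth.Agent.OpenDim.resTrdegAt_ι' f w
  rw [Groth.Agent.OpenDim.resTrdegAt_eq_trd, Groth.Agent.OpenDim.resTrdegAt_eq_trd] at this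
  norm_cast at this ⊢

/-- An open immersion does not change the dimension of the closure of a point. -/
theorem dim_closure_openImmersion {k : Type u} [Field k] {W X : Scheme.{u}} (f : X ⟶ Spec (CommRingCat.of k))
    [LocallyOfFiniteType f] (j : W ⟶ X) [IsOpenImmersion j] (w : W) :
    topologicalKrullDim ↥(closure ({w} : Set W)) = topologicalKrullDim ↥(closure ({j w} : Set X)) := by
  have e : j.isoOpensRange.hom ≫ j.opensRange.ι = j := j.isoOpensRange_hom_ι
  rw [show j w = j.opensRange.ι (j.isoOpensRange.hom w) by rw [← Scheme.Hom.comp_apply, e],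
    ← dim_closure_restrict f, ← Groth.Agent.InterDimLib.dim_closure_homeo j.isoOpensRange.hom.homeomorph w]
  rfl

/-- The closure of a point of an affine open, ring theoretically. -/
theorem dim_closure_spec {k : Type u} [Field k] {X : Scheme.{u}} (f : X ⟶ Spec (CommRingCat.of k))
    [LocallyOfFiniteType f] {R : CommRingCat.{u}} (j : Spec R ⟶ X) [IsOpenImmersion j] (p : PrimeSpectrum R) :
    topologicalKrullDim ↥(closure ({j p} : Set X)) = ringKrullDim (R ⧸ p.asIdeal) := by
  rw [← dim_closure_openImmersion f j p]
  show topologicalKrullDim ↥(closure ({p} : Set (PrimeSpectrum R))) = _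
  rw [show closure ({p} : Set (PrimeSpectrum R)) = PrimeSpectrum.zeroLocus (p.asIdeal : Set R) from
      PrimeSpectrum.closure_singleton _]
  exact Groth.Agent.HLVTLib.krullDim_zeroLocus _

end Groth.Agent.SmoothInterDim
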